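import Cfsg.Agent.H147.RG.CoTwoT
import Cfsg.Agent.H867.RG.SporOf
import Cfsg.Agent.H419.Row
import Cfsg.Agent.S2070

/-!
# S3509, row `Co2` (helper147)

Word certificates for the 56 classes (class list of helper633); no index, no centralizer orders.
-/

set_option autoImplicit false
set_option maxRecDepth 100000

namespace Cfsg.Agent.H147.RG.CoTwo

open Cfsg Subgroup Cfsg.Agent.H633.Ore Cfsg.Agent.H633.Ore.Co2 Cfsg.Agent.H633.Ore.Co2D
open Cfsg.Agent.H916.RG Cfsg.Agent.H106.RC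

/-! ### order 30 -/

/-- the three powers -/
noncomputable def pws3F (w : List ℕ) (kk : List ℕ → List ℕ → List ℕ → Bool) : Bool :=
  wmF w ID22 fun W => powF W 15 ID22 fun X => powF W 10 ID22 fun Y => powF W 6 ID22 fun Z =>
    cond (mvF X) (cond (mvF Y) (cond (mvF Z) (cond (powF X 2 ID22 fun V => eqL V ID22) (kk X Y Z) false) false) false)
      false

theorem ok_T {w : List ℕ} {kk : List ℕ → List ℕ → List ℕ → Bool}
    (hk : ∀ {X Y Z : List ℕ} {x y z : Spor.Co2}, M.Rp X x → M.Rp Y y → M.Rp Z z → x ≠ 1 → kk X Y Z = true →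
      ∀ H : Subgroup Spor.Co2, ¬ (⊤ : Subgroup Spor.Co2) ≤ H → ¬ TC ⊤ H x y z)
    (h : pws3F w kk = true) : Ok (wd w) := by
  obtain ⟨W, hW, h1⟩ := wm_spec rp_one' h
  rw [mul_one] at hW
  obtain ⟨X, hX, h2⟩ := pow_spec hW rp_one' h1
  obtain ⟨Y, hY, h3⟩ := pow_spec hW rp_one' h2
  obtain ⟨Z, hZ, h4⟩ := pow_spec hW rp_one' h3
  rw [mul_one] at hX hY hZ
  cases b1 : mvF X with
  | false => rw [b1] at h4; exact absurd h4 (by simp)
  | true =>
  cases b2 : mvF Y with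
  | false => rw [b1, b2] at h4; exact absurd h4 (by simp)
  | true =>
  cases b3 : mvF Z with
  | false => rw [b1, b2, b3] at h4; exact absurd h4 (by simp)
  | true =>
  cases b4 : powF X 2 ID22 (fun V => eqL V ID22) with
  | false => rw [b1, b2, b3, b4] at h4; exact absurd h4 (by simp)
  | true =>
  rw [b1, b2, b3, b4] at h4
  obtain ⟨V, hV, h5⟩ := pow_spec hX rp_one' b4
  have h6 : (wd w ^ 15) ^ 2 * 1 = 1 := by
    refine eq_of_rp hV ?_
    rw [eqL_eq h5]
    exact rp_one'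
  rw [mul_one, ← pow_mul] at h6
  have hpr : ∀ r : ℕ, r.Prime → r ∣ 30 → r = 2 ∨ r = 3 ∨ r = 5 := by
    intro r hr hrm
    have hr30 : r ≤ 30 := Nat.le_of_dvd (by norm_num) hrm
    interval_cases r <;> first | (exfalso; revert hr; norm_num; done) | (exfalso; revert hrm; norm_num; done) | simp
  have ho : orderOf (wd w) = 30 := by
    refine orderOf_eq_of_pow_and_pow_div_prime (by norm_num) h6 fun r hr hrm => ?_
    rcases hpr r hr hrm with rfl | rfl | rfl
    · exact mv_spec hX b1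
    · exact mv_spec hY b2
    · exact mv_spec hZ b3
  exact rce_of_triple simple_co2 ncomm_co2 ho (by norm_num) hpr fun H hH => hk hX hY hZ (mv_spec hX b1) h4 H hH

/-- the third member gives the first one -/
noncomputable def kT1 (l : List (List ℕ)) (k : ℕ) (l2 : List (List ℕ)) (k2 : ℕ) (X Y Z : List ℕ) : Bool :=
  cond (cmF Y l) (stF X Z l k fun U => cond (eqL U X) (kA l2 k2 X Y) false) false

theorem kT1_spec {l l2 : List (List ℕ)} {k k2 : ℕ} {X Y Z : List ℕ} {x y z : Spor.Co2} (hX : M.Rp X x) (hY : M.Rp Y y)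
    (hZ : M.Rp Z z) (hx : x ≠ 1) (h : kT1 l k l2 k2 X Y Z = true) (H : Subgroup Spor.Co2)
    (hH : ¬ (⊤ : Subgroup Spor.Co2) ≤ H) : ¬ TC ⊤ H x y z := by
  intro hT
  unfold kT1 at h
  cases b1 : cmF Y l with
  | false => rw [b1] at h; exact absurd h (by simp)
  | true =>
  rw [b1] at h
  obtain ⟨h1, U, hU, h2⟩ := st_spec hX hZ h
  cases b2 : eqL U X with
  | false => rw [b2] at h2; exact absurd h2 (by simp)
  | true =>
  rw [b2] at h2
  have h3 := (hT.prod _ h1 (cm_spec hY b1)).pow k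
  have e := eq_of_rp hU (by rw [eqL_eq b2]; exact hX)
  rw [e] at h3
  exact kA_spec hX hY hx h2 H hH h3.toPC

/-- the third member gives `u`, then the second one the first one -/
noncomputable def kT2 (l : List (List ℕ)) (k : ℕ) (l1 : List (List ℕ)) (k1 : ℕ) (l2 : List (List ℕ)) (k2 : ℕ)
    (X Y Z : List ℕ) : Bool :=
  cond (cmF Y l) (stF X Z l k fun U => cond (cmF U l1) (stF X Y l1 k1 fun V => cond (eqL V X) (kA l2 k2 X U) false)
    false) false

theorem kT2_spec {l l1 l2 : List (List ℕ)} {k k1 k2 : ℕ} {X Y Z : List ℕ} {x y z : Spor.Co2} (hX : M.Rp X x)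
    (hY : M.Rp Y y) (hZ : M.Rp Z z) (hx : x ≠ 1) (h : kT2 l k l1 k1 l2 k2 X Y Z = true) (H : Subgroup Spor.Co2)
    (hH : ¬ (⊤ : Subgroup Spor.Co2) ≤ H) : ¬ TC ⊤ H x y z := by
  intro hT
  unfold kT2 at h
  cases b1 : cmF Y l with
  | false => rw [b1] at h; exact absurd h (by simp)
  | true =>
  rw [b1] at h
  obtain ⟨h1, U, hU, h2⟩ := st_spec hX hZ h
  have h3 := ((hT.prod _ h1 (cm_spec hY b1)).pow k).swap
  cases b2 : cmF U l1 with
  | false => rw [b2] at h2; exact absurd h2 (by simp)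
  | true =>
  rw [b2] at h2
  obtain ⟨h4, V, hV, h5⟩ := st_spec hX hY h2
  have h6 := (h3.prod _ h4 (cm_spec hU b2)).pow k1
  cases b3 : eqL V X with
  | false => rw [b3] at h5; exact absurd h5 (by simp)
  | true =>
  rw [b3] at h5
  have e := eq_of_rp hV (by rw [eqL_eq b3]; exact hX)
  rw [e] at h6
  exact kA_spec hX hU hx h5 H hH h6.toPC

/-! ### the classes -/

theorem c0 : Ok (wd []) := ok_pp (r := 2) (k := 0) (by norm_num) (by simp [wd])

theorem c1 : Ok (wd C0.w1) := ok_word 2 (r := 2) (k := 1) (by norm_num) (by norm_num) (by decide +kernel)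

theorem c2 : Ok (wd C0.w2) := ok_word 2 (r := 2) (k := 1) (by norm_num) (by norm_num) (by decide +kernel)

theorem c3 : Ok (wd C0.w3) := ok_word 2 (r := 2) (k := 1) (by norm_num) (by norm_num) (by decide +kernel)

theorem c4 : Ok (wd C0.w4) := ok_word 3 (r := 3) (k := 1) (by norm_num) (by norm_num) (by decide +kernel)

theorem c5 : Ok (wd C0.w5) := ok_word 3 (r := 3) (k := 1) (by norm_num) (by norm_num) (by decide +kernel)

theorem c6 : Ok (wd C1.w6) := ok_word 4 (r := 2) (k := 2) (by norm_num) (by norm_num) (by decide +kernel)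

theorem c7 : Ok (wd C1.w7) := ok_word 4 (r := 2) (k := 2) (by norm_num) (by norm_num) (by decide +kernel)

theorem c8 : Ok (wd C1.w8) := ok_word 4 (r := 2) (k := 2) (by norm_num) (by norm_num) (by decide +kernel)

theorem c9 : Ok (wd C1.w9) := ok_word 4 (r := 2) (k := 2) (by norm_num) (by norm_num) (by decide +kernel)

theorem c10 : Ok (wd C1.w10) := ok_word 4 (r := 2) (k := 2) (by norm_num) (by norm_num) (by decide +kernel)

theorem c11 : Ok (wd C2.w11) := ok_word 4 (r := 2) (k := 2) (by norm_num) (by norm_num) (by decide +kernel)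

theorem c12 : Ok (wd C2.w12) := ok_word 4 (r := 2) (k := 2) (by norm_num) (by norm_num) (by decide +kernel)

theorem c13 : Ok (wd C2.w13) := ok_word 5 (r := 5) (k := 1) (by norm_num) (by norm_num) (by decide +kernel)

theorem c14 : Ok (wd C2.w14) := ok_word 5 (r := 5) (k := 1) (by norm_num) (by norm_num) (by decide +kernel)

theorem c15 : Ok (wd C2.w15) := ok_A (m := 6) (p := 2) (q := 3) (k := 4) (l := [[], [2, 1, 2, 1, 0, 2, 0, 2, 0, 2]])
  (by norm_num) (by norm_num) (by norm_num) (pr_of 1 1 (by norm_num) (by norm_num) (by norm_num)) (by decide +kernel)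

theorem c16 : Ok (wd C3.w16) := ok_A (m := 6) (p := 2) (q := 3) (k := 5) (l := [[], [0, 2, 0, 1, 2, 1, 0, 1, 0, 2, 1, 0, 2, 0, 1, 2, 1, 2, 0, 2, 0, 1, 0, 1, 2, 1, 2]])
  (by norm_num) (by norm_num) (by norm_num) (pr_of 1 1 (by norm_num) (by norm_num) (by norm_num)) (by decide +kernel)

theorem c17 : Ok (wd C3.w17) := ok_A (m := 6) (p := 2) (q := 3) (k := 6) (l := [[], [0, 2, 1, 2, 1, 0, 2, 0, 1, 2, 1, 2, 0]])
  (by norm_num) (by norm_num) (by norm_num) (pr_of 1 1 (by norm_num) (by norm_num) (by norm_num)) (by decide +kernel)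

theorem c18 : Ok (wd C3.w18) := ok_A (m := 6) (p := 2) (q := 3) (k := 3) (l := [[], [2, 1, 0, 2, 1, 0, 1, 0, 1, 2, 0, 1]])
  (by norm_num) (by norm_num) (by norm_num) (pr_of 1 1 (by norm_num) (by norm_num) (by norm_num)) (by decide +kernel)

theorem c19 : Ok (wd C3.w19) := ok_A (m := 6) (p := 2) (q := 3) (k := 2) (l := [[], [0, 1, 0, 1, 0, 1, 0, 2, 1, 2, 0, 1, 0, 1, 0, 1, 0]])
  (by norm_num) (by norm_num) (by norm_num) (pr_of 1 1 (by norm_num) (by norm_num) (by norm_num)) (by decide +kernel)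

theorem c20 : Ok (wd C3.w20) := ok_A (m := 6) (p := 2) (q := 3) (k := 5) (l := [[], [0, 1, 2, 1, 0, 1, 2, 0, 1, 0]])
  (by norm_num) (by norm_num) (by norm_num) (pr_of 1 1 (by norm_num) (by norm_num) (by norm_num)) (by decide +kernel)

theorem c21 : Ok (wd C4.w21) := ok_word 7 (r := 7) (k := 1) (by norm_num) (by norm_num) (by decide +kernel)

theorem c22 : Ok (wd C4.w22) := ok_word 8 (r := 2) (k := 3) (by norm_num) (by norm_num) (by decide +kernel)

theorem c23 : Ok (wd C4.w23) := ok_word 8 (r := 2) (k := 3) (by norm_num) (by norm_num) (by decide +kernel)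

theorem c24 : Ok (wd C4.w24) := ok_word 8 (r := 2) (k := 3) (by norm_num) (by norm_num) (by decide +kernel)

theorem c25 : Ok (wd C4.w25) := ok_word 8 (r := 2) (k := 3) (by norm_num) (by norm_num) (by decide +kernel)

theorem c26 : Ok (wd C5.w26) := ok_word 8 (r := 2) (k := 3) (by norm_num) (by norm_num) (by decide +kernel)

theorem c27 : Ok (wd C5.w27) := ok_word 8 (r := 2) (k := 3) (by norm_num) (by norm_num) (by decide +kernel)

theorem c28 : Ok (wd C5.w28) := ok_word 9 (r := 3) (k := 2) (by norm_num) (by norm_num) (by decide +kernel)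

theorem c29 : Ok (wd C5.w29) := ok_A (m := 10) (p := 2) (q := 5) (k := 3) (l := [[], [1, 0, 2, 1, 2, 0, 1, 0, 2, 0, 1, 2, 1, 0, 1, 2, 1, 0, 2, 0, 1, 0, 2, 1, 0]])
  (by norm_num) (by norm_num) (by norm_num) (pr_of 1 1 (by norm_num) (by norm_num) (by norm_num)) (by decide +kernel)

theorem c30 : Ok (wd C5.w30) := ok_A (m := 10) (p := 2) (q := 5) (k := 6) (l := [[], [2, 0, 1, 2, 0, 2, 1, 0, 2]])
  (by norm_num) (by norm_num) (by norm_num) (pr_of 1 1 (by norm_num) (by norm_num) (by norm_num)) (by decide +kernel)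

theorem c31 : Ok (wd C6.w31) := ok_A (m := 10) (p := 2) (q := 5) (k := 3) (l := [[], [1, 0, 2, 1, 2, 0, 1, 2, 1, 0, 1, 2, 1, 0, 2, 1, 2, 0, 1]])
  (by norm_num) (by norm_num) (by norm_num) (pr_of 1 1 (by norm_num) (by norm_num) (by norm_num)) (by decide +kernel)

theorem c32 : Ok (wd C6.w32) := ok_word 11 (r := 11) (k := 1) (by norm_num) (by norm_num) (by decide +kernel)

theorem c33 : Ok (wd C6.w33) := ok_A (m := 12) (p := 2) (q := 3) (k := 7) (l := [[], [0, 1, 2, 0, 1, 0, 1, 2, 0, 1, 0, 2, 1, 2, 0, 1, 0, 1, 2, 0, 2]])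
  (by norm_num) (by norm_num) (by norm_num) (pr_of 2 1 (by norm_num) (by norm_num) (by norm_num)) (by decide +kernel)

theorem c34 : Ok (wd C6.w34) := ok_A (m := 12) (p := 2) (q := 3) (k := 6) (l := [[], [0, 2, 1, 0, 1, 2, 0, 2, 0, 1, 0, 2, 1, 2, 0]])
  (by norm_num) (by norm_num) (by norm_num) (pr_of 2 1 (by norm_num) (by norm_num) (by norm_num)) (by decide +kernel)

theorem c35 : Ok (wd C6.w35) := ok_A (m := 12) (p := 2) (q := 3) (k := 2) (l := [[], [2, 1, 2, 1, 2, 0, 1, 0, 2, 1, 2, 1, 2]])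
  (by norm_num) (by norm_num) (by norm_num) (pr_of 2 1 (by norm_num) (by norm_num) (by norm_num)) (by decide +kernel)

theorem c36 : Ok (wd C7.w36) := ok_A (m := 12) (p := 2) (q := 3) (k := 3) (l := [[], [0, 1, 2, 0, 2, 0, 2, 0, 1, 0]])
  (by norm_num) (by norm_num) (by norm_num) (pr_of 2 1 (by norm_num) (by norm_num) (by norm_num)) (by decide +kernel)

theorem c37 : Ok (wd C7.w37) := ok_A (m := 12) (p := 2) (q := 3) (k := 3) (l := [[], [2, 1, 2, 0, 1, 2, 1, 2, 0, 2, 1, 2, 1, 0, 2, 1, 2]])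
  (by norm_num) (by norm_num) (by norm_num) (pr_of 2 1 (by norm_num) (by norm_num) (by norm_num)) (by decide +kernel)

theorem c38 : Ok (wd C7.w38) := ok_A (m := 12) (p := 2) (q := 3) (k := 6) (l := [[], [0, 1, 0]])
  (by norm_num) (by norm_num) (by norm_num) (pr_of 2 1 (by norm_num) (by norm_num) (by norm_num)) (by decide +kernel)

theorem c39 : Ok (wd C7.w39) := ok_A (m := 12) (p := 2) (q := 3) (k := 2) (l := [[], [0, 2, 0, 2, 0, 1, 0, 1, 0, 2, 1, 2, 0, 1, 0, 1, 0, 2, 0, 2]])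
  (by norm_num) (by norm_num) (by norm_num) (pr_of 2 1 (by norm_num) (by norm_num) (by norm_num)) (by decide +kernel)

theorem c40 : Ok (wd C7.w40) := ok_A (m := 12) (p := 2) (q := 3) (k := 7) (l := [[], [2, 1, 2, 0, 1, 2, 0, 2, 1, 2, 0, 2, 1, 0, 2, 1, 2]])
  (by norm_num) (by norm_num) (by norm_num) (pr_of 2 1 (by norm_num) (by norm_num) (by norm_num)) (by decide +kernel)

theorem c41 : Ok (wd C8.w41) := ok_A (m := 14) (p := 2) (q := 7) (k := 7) (l := [[], [0, 1, 2, 1, 2, 0, 1, 0, 1, 2, 1, 2, 1, 0]])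
  (by norm_num) (by norm_num) (by norm_num) (pr_of 1 1 (by norm_num) (by norm_num) (by norm_num)) (by decide +kernel)

theorem c42 : Ok (wd C8.w42) := ok_A (m := 14) (p := 2) (q := 7) (k := 6) (l := [[], [0, 2, 1, 2, 0, 2, 1, 2, 0]])
  (by norm_num) (by norm_num) (by norm_num) (pr_of 1 1 (by norm_num) (by norm_num) (by norm_num)) (by decide +kernel)

theorem c43 : Ok (wd C8.w43) := ok_B (m := 15) (p := 3) (q := 5) (k := 3) (j := 14) (l := [[2, 0, 2, 1, 0, 2, 0, 2, 1, 0, 1, 2, 0, 2, 0, 1, 2, 0, 2], []]) (l' := [[], [1, 0, 2, 0, 2, 0, 1, 0, 1, 0, 1, 2, 1, 0, 1, 0, 1, 2, 1]])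
  (by norm_num) (by norm_num) (by norm_num) (pr_of 1 1 (by norm_num) (by norm_num) (by norm_num)) (by decide +kernel)

theorem c44 : Ok (wd C8.w44) := ok_A (m := 15) (p := 3) (q := 5) (k := 5) (l := [[], [0, 2, 1, 0, 2, 1, 2, 0, 2, 0, 2, 0, 1, 2, 0, 1, 2, 0]])
  (by norm_num) (by norm_num) (by norm_num) (pr_of 1 1 (by norm_num) (by norm_num) (by norm_num)) (by decide +kernel)

theorem c45 : Ok (wd C8.w45) := ok_word 16 (r := 2) (k := 4) (by norm_num) (by norm_num) (by decide +kernel)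

theorem c46 : Ok (wd C9.w46) := ok_word 16 (r := 2) (k := 4) (by norm_num) (by norm_num) (by decide +kernel)

theorem c47 : Ok (wd C9.w47) := ok_A (m := 18) (p := 2) (q := 3) (k := 6) (l := [[], [0, 2, 0, 2, 1, 2, 1, 2, 0, 2, 0]])
  (by norm_num) (by norm_num) (by norm_num) (pr_of 1 2 (by norm_num) (by norm_num) (by norm_num)) (by decide +kernel)

theorem c48 : Ok (wd C9.w48) := ok_A (m := 20) (p := 2) (q := 5) (k := 5) (l := [[], [0, 1, 0, 1, 0, 1, 0, 1, 2, 0, 1, 0, 2, 1, 0, 1, 0, 1, 0, 1, 0, 2, 0, 1, 0, 2]])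
  (by norm_num) (by norm_num) (by norm_num) (pr_of 2 1 (by norm_num) (by norm_num) (by norm_num)) (by decide +kernel)

theorem c49 : Ok (wd C9.w49) := ok_A (m := 20) (p := 2) (q := 5) (k := 5) (l := [[], [0, 2, 1, 2, 1, 0]])
  (by norm_num) (by norm_num) (by norm_num) (pr_of 2 1 (by norm_num) (by norm_num) (by norm_num)) (by decide +kernel)

theorem c50 : Ok (wd C9.w50) := ok_word 23 (r := 23) (k := 1) (by norm_num) (by norm_num) (by decide +kernel)

theorem c51 : Ok (wd C10.w51) := ok_A (m := 24) (p := 2) (q := 3) (k := 4) (l := [[], [2, 0, 2, 1, 0, 1, 0, 1, 2, 0, 2]])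
  (by norm_num) (by norm_num) (by norm_num) (pr_of 3 1 (by norm_num) (by norm_num) (by norm_num)) (by decide +kernel)

theorem c52 : Ok (wd C10.w52) := ok_A (m := 24) (p := 2) (q := 3) (k := 3) (l := [[], [2, 1, 0, 2, 0, 2, 0, 1, 2]])
  (by norm_num) (by norm_num) (by norm_num) (pr_of 3 1 (by norm_num) (by norm_num) (by norm_num)) (by decide +kernel)

theorem c53 : Ok (wd C10.w53) := ok_A (m := 28) (p := 2) (q := 7) (k := 7) (l := [[], [0, 1, 2, 1, 2, 0, 1, 0, 1, 2, 1, 2, 1, 0]])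
  (by norm_num) (by norm_num) (by norm_num) (pr_of 2 1 (by norm_num) (by norm_num) (by norm_num)) (by decide +kernel)

theorem c55 : Ok (wd C10.w55) := ok_T (kk := kT1 [[], [], [2, 0, 2, 1, 0, 2, 0, 1, 2, 1, 2, 0, 2, 1, 2, 1, 0, 2, 0, 1, 2, 0, 2]] 5 [[], [0, 1, 2, 1, 2, 0, 1, 0, 1, 0, 2, 1, 2, 1, 0]] 3) kT1_spec (by decide +kernel)

theorem c54 : Ok (wd C10.w54) := ok_T (kk := kT2 [[], [0, 1, 0, 1, 0, 2, 1, 0, 2, 1, 0, 2, 0, 2, 0, 1, 2, 0, 1, 2, 0, 1, 0, 1, 0]] 1 [[2, 0, 1, 0, 2, 1, 2, 1, 2, 0, 2, 0, 2, 0, 1, 2, 1, 2, 0, 1, 0, 2], [2, 1, 0, 2, 1, 0, 1, 0, 2, 1, 2, 0, 1, 0, 1, 0, 2, 1, 2, 0, 1, 0, 1, 2, 0, 1, 2]] 3 [[], [1, 0, 2, 1, 0, 2, 1, 0, 1, 2, 0, 1, 2, 0]] 6) kT2_spec (by decide +kernel)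

theorem ok_reps : ∀ w ∈ reps, Ok (wd w) := by
  rw [← reps_eq]
  unfold data
  simp only [List.map_cons, List.map_nil, List.forall_mem_cons]
  exact ⟨c0, c1, c2, c3, c4, c5, c6, c7, c8, c9, c10, c11, c12, c13, c14, c15, c16, c17, c18, c19, c20, c21, c22, c23, c24, c25, c26, c27, c28, c29, c30, c31, c32, c33, c34, c35, c36, c37, c38, c39, c40, c41, c42, c43, c44, c45, c46, c47, c48, c49, c50, c51, c52, c53, c54, c55, fun x hx => absurd hx List.not_mem_nil⟩

theorem ok_all (g : Spor.Co2) : Ok g := by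
  obtain ⟨w, hw, h | h⟩ := cover g
  · exact (ok_reps w hw).of_isConj h
  · exact (ok_reps w hw).inv.of_isConj h

theorem rc : RC Spor.Co2 := by
  intro α
  obtain ⟨g, rfl⟩ := H419.Row.inner_of_out Cfsg.Agent.S2070.result α
  exact ok_all g

/-- **S3509, the row Co2.** -/
theorem rc_co2 {S : Type*} [Group S] (h : Spor.IsoCo2 S) : RC S := by
  obtain ⟨e⟩ := h
  exact RC.congr e.symm rc

theorem row_co2 : Cfsg.Agent.H873.RG.RowX (fun S _ => Spor.IsoCo2 S) :=
  Cfsg.Agent.H867.RG.RowX.of_rc fun _ _ _ h => rc_co2 h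

end Cfsg.Agent.H147.RG.CoTwo
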