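import Cfsg.Agent.H633.Ore.Co2Cover
import Cfsg.Agent.H147.RG.CovT

/-!
# S3509, row `Co2`: checks of word certificates with matrices over `F₂` (helper147)
-/

set_option autoImplicit false

namespace Cfsg.Agent.H147.RG.CoTwo

open Cfsg Subgroup Cfsg.Agent.H633.Ore Cfsg.Agent.H633.Ore.Co2 Cfsg.Agent.H633.Ore.Co2D
open Cfsg.Agent.H916.RG Cfsg.Agent.H106.RC

/-! ### kernel functions -/

/-- equality of lists -/
noncomputable def eqL (A : List ℕ) : List ℕ → Bool :=
  List.rec (fun B => List.rec true (fun _ _ _ => false) B)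
    (fun a _ ih B => List.rec false (fun b B' _ => cond (Nat.beq a b) (ih B') false) B) A

theorem eqL_eq : ∀ {A B : List ℕ}, eqL A B = true → A = B
  | [], [], _ => rfl
  | [], b :: B, h => absurd h (by simp [eqL])
  | a :: A, [], h => absurd h (by simp [eqL])
  | a :: A, b :: B, h => by
    have h' : cond (Nat.beq a b) (eqL A B) false = true := h
    cases hb : Nat.beq a b with
    | false => rw [hb] at h'; exact absurd h' (by simp)
    | true =>
      rw [hb] at h'
      rw [Nat.eq_of_beq_eq_true hb, eqL_eq h']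

/-- multiplication by a word from the right -/
noncomputable def rmF (w : List ℕ) : List ℕ → (List ℕ → Bool) → Bool :=
  List.rec (fun cur k => k cur) (fun a _ ih cur k => mapF (linL cur) (GG a) fun nx => ih nx k) w

/-- times the product of the conjugates of `Y` -/
noncomputable def cpF (Y : List ℕ) (l : List (List ℕ)) : List ℕ → (List ℕ → Bool) → Bool :=
  List.rec (fun cur k => k cur) (fun c _ ih cur k => rmF c cur fun A => mapF (linL A) Y fun B =>
    rmF c.reverse B fun C => ih C k) l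

/-- `L ^ m` times the matrix -/
noncomputable def powF (L : List ℕ) (m : ℕ) : List ℕ → (List ℕ → Bool) → Bool :=
  Nat.rec (fun cur k => k cur) (fun _ ih cur k => mapF (linL L) cur fun nx => ih nx k) m

/-- the words commute with `X` -/
noncomputable def cmF (X : List ℕ) (l : List (List ℕ)) : Bool :=
  List.rec true (fun c _ ih => cond (wmF c X fun A => rmF c X fun B => eqL A B) ih false) l

/-- a power of the product of the conjugates -/
noncomputable def stF (X Y : List ℕ) (l : List (List ℕ)) (k : ℕ) (kk : List ℕ → Bool) : Bool :=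
  cond (cmF X l) (cpF Y l ID22 fun P => powF P k ID22 kk) false

/-- a point among the first ones is moved -/
noncomputable def mvF (X : List ℕ) : Bool :=
  cond (Nat.beq (linL X (ent 22 TT 0)) (ent 22 TT 0)) (cond (Nat.beq (linL X (ent 22 TT 1)) (ent 22 TT 1))
    (cond (Nat.beq (linL X (ent 22 TT 2)) (ent 22 TT 2)) (cond (Nat.beq (linL X (ent 22 TT 5)) (ent 22 TT 5))
      (cond (Nat.beq (linL X (ent 22 TT 9)) (ent 22 TT 9)) (Bool.not (Nat.beq (linL X (ent 22 TT 14)) (ent 22 TT 14)))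
        true) true) true) true) true

/-! ### soundness -/

theorem wm_spec {w cur : List ℕ} {g : Spor.Co2} {k : List ℕ → Bool} (hc : M.Rp cur g) (h : wmF w cur k = true) :
    ∃ L, M.Rp L (wd w * g) ∧ k L = true := by
  rw [wmF_eq] at h
  exact ⟨_, rp_wm w hc, h⟩

theorem mul_spec {A B : List ℕ} {g g' : Spor.Co2} {k : List ℕ → Bool} (hA : M.Rp A g) (hB : M.Rp B g')
    (h : mapF (linL A) B k = true) : ∃ L, M.Rp L (g * g') ∧ k L = true := by
  rw [mapF_eq] at h
  exact ⟨_, Mdl.Rp.mul M hA hB, h⟩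

theorem wd_nil : wd [] = 1 := rfl

theorem wd_cons (a : ℕ) (w : List ℕ) : wd (a :: w) = tt a * wd w := by
  unfold wd
  rw [List.map_cons, List.prod_cons]

theorem wd_append (v w : List ℕ) : wd (v ++ w) = wd v * wd w := by
  unfold wd
  rw [List.map_append, List.prod_append]

theorem wd_reverse (w : List ℕ) : wd w.reverse = (wd w)⁻¹ := by
  induction w with
  | nil => exact inv_one.symm
  | cons a w ih =>
    rw [List.reverse_cons, wd_append, ih, wd_cons, wd_cons, wd_nil, mul_one, mul_inv_rev]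
    congr 1
    exact eq_inv_of_mul_eq_one_left (tt_sq a)

theorem rm_spec {w : List ℕ} : ∀ {cur : List ℕ} {g : Spor.Co2} {k : List ℕ → Bool}, M.Rp cur g → rmF w cur k = true →
    ∃ L, M.Rp L (g * wd w) ∧ k L = true := by
  induction w with
  | nil =>
    intro cur g k hc h
    exact ⟨cur, by rw [wd_nil, mul_one]; exact hc, h⟩
  | cons a w ih =>
    intro cur g k hc h
    have h' : mapF (linL cur) (GG a) (fun nx => rmF w nx k) = true := h
    obtain ⟨L, hL, h1⟩ := mul_spec hc (rpG a) h'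
    obtain ⟨L', hL', h2⟩ := ih hL h1
    refine ⟨L', ?_, h2⟩
    rw [wd_cons, ← mul_assoc]
    exact hL'

theorem cp_spec {Y : List ℕ} {y : Spor.Co2} (hY : M.Rp Y y) {l : List (List ℕ)} :
    ∀ {cur : List ℕ} {g : Spor.Co2} {k : List ℕ → Bool}, M.Rp cur g → cpF Y l cur k = true →
    ∃ L, M.Rp L (g * ((l.map wd).map fun n => n * y * n⁻¹).prod) ∧ k L = true := by
  induction l with
  | nil =>
    intro cur g k hc h
    exact ⟨cur, by rw [List.map_nil, List.map_nil, List.prod_nil, mul_one]; exact hc, h⟩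
  | cons c l ih =>
    intro cur g k hc h
    have h' : rmF c cur (fun A => mapF (linL A) Y fun B => rmF c.reverse B fun C => cpF Y l C k) = true := h
    obtain ⟨A, hA, h1⟩ := rm_spec hc h'
    obtain ⟨B, hB, h2⟩ := mul_spec hA hY h1
    obtain ⟨C, hC, h3⟩ := rm_spec hB h2
    obtain ⟨L, hL, h4⟩ := ih hC h3
    refine ⟨L, ?_, h4⟩
    rw [wd_reverse] at hL
    rw [List.map_cons, List.map_cons, List.prod_cons]
    have e : g * (wd c * y * (wd c)⁻¹ * ((l.map wd).map fun n => n * y * n⁻¹).prod) =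
        g * wd c * y * (wd c)⁻¹ * ((l.map wd).map fun n => n * y * n⁻¹).prod := by group
    rw [e]
    exact hL

theorem pow_spec {L : List ℕ} {g : Spor.Co2} (hL : M.Rp L g) {m : ℕ} :
    ∀ {cur : List ℕ} {a : Spor.Co2} {k : List ℕ → Bool}, M.Rp cur a → powF L m cur k = true →
    ∃ L', M.Rp L' (g ^ m * a) ∧ k L' = true := by
  induction m with
  | zero =>
    intro cur a k hc h
    exact ⟨cur, by rw [pow_zero, one_mul]; exact hc, h⟩
  | succ m ih =>
    intro cur a k hc h
    have h' : mapF (linL L) cur (fun nx => powF L m nx k) = true := h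
    obtain ⟨A, hA, h1⟩ := mul_spec hL hc h'
    obtain ⟨B, hB, h2⟩ := ih hA h1
    refine ⟨B, ?_, h2⟩
    rw [pow_succ, mul_assoc]
    exact hB

theorem cm_spec {X : List ℕ} {x : Spor.Co2} (hX : M.Rp X x) {l : List (List ℕ)} (h : cmF X l = true) :
    ∀ n ∈ l.map wd, n ∈ (⊤ : Subgroup Spor.Co2) ∧ n * x = x * n := by
  induction l with
  | nil => simp
  | cons c l ih =>
    have h' : cond (wmF c X fun A => rmF c X fun B => eqL A B) (cmF X l) false = true := h
    cases hb : (wmF c X fun A => rmF c X fun B => eqL A B) with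
    | false => rw [hb] at h'; exact absurd h' (by simp)
    | true =>
      rw [hb] at h'
      obtain ⟨A, hA, h1⟩ := wm_spec hX hb
      obtain ⟨B, hB, h2⟩ := rm_spec hX h1
      intro n hn
      rw [List.map_cons, List.mem_cons] at hn
      rcases hn with rfl | hn
      · refine ⟨trivial, eq_of_rp hA ?_⟩
        rw [eqL_eq h2]
        exact hB
      · exact ih h' n hn

theorem rp_one' : M.Rp ID22 1 := rp_one

theorem st_spec {X Y : List ℕ} {x y : Spor.Co2} (hX : M.Rp X x) (hY : M.Rp Y y) {l : List (List ℕ)} {k : ℕ}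
    {kk : List ℕ → Bool} (h : stF X Y l k kk = true) :
    (∀ n ∈ l.map wd, n ∈ (⊤ : Subgroup Spor.Co2) ∧ n * x = x * n) ∧
    ∃ U, M.Rp U (((l.map wd).map fun n => n * y * n⁻¹).prod ^ k) ∧ kk U = true := by
  unfold stF at h
  cases hb : cmF X l with
  | false => rw [hb] at h; exact absurd h (by simp)
  | true =>
    rw [hb] at h
    refine ⟨cm_spec hX hb, ?_⟩
    obtain ⟨P, hP, h1⟩ := cp_spec hY rp_one' h
    obtain ⟨U, hU, h2⟩ := pow_spec hP rp_one' h1
    refine ⟨U, ?_, h2⟩
    rwa [one_mul, mul_one] at hU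

theorem mv_spec {X : List ℕ} {x : Spor.Co2} (hX : M.Rp X x) (h : mvF X = true) : x ≠ 1 := by
  rintro rfl
  have key : ∀ i < 2300, Nat.beq (linL X (ent 22 TT i)) (ent 22 TT i) = true := by
    intro i hi
    obtain ⟨y, hy⟩ := M.idx_surj i (by rw [M_n]; exact hi)
    have h1 := M.ent_idx y
    rw [hy, M_w, M_T] at h1
    have h2 := hX y
    rw [one_smul] at h2
    rw [h1, ← h2]
    exact Nat.beq_refl _
  unfold mvF at h
  rw [key 0 (by norm_num), key 1 (by norm_num), key 2 (by norm_num), key 5 (by norm_num), key 9 (by norm_num),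
    key 14 (by norm_num)] at h
  exact absurd h (by simp)

/-! ### the group -/

theorem simple_co2 : IsSimpleGroup Spor.Co2 := Cfsg.Agent.Schreier.CoTwoStab.isSimpleGroup

theorem ncomm_co2 : ¬ IsMulCommutative Spor.Co2 := by
  intro h
  have := simple_co2
  have h1 : (Nat.card Spor.Co2).Prime := by
    let _ : CommGroup Spor.Co2 := { (inferInstance : Group Spor.Co2) with mul_comm := h.is_comm.comm }
    exact IsSimpleGroup.prime_card
  rw [card_co2] at h1
  norm_num at h1

theorem nice_co2 : Nice (⊤ : Subgroup Spor.Co2) := nice_top simple_co2 ncomm_co2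

/-- everything that is used about a class -/
def Ok (g : Spor.Co2) : Prop := RCe Spor.Co2 (MulAut.conj g)

theorem Ok.of_isConj {g h : Spor.Co2} (hg : Ok g) (e : IsConj g h) : Ok h := by
  obtain ⟨c, rfl⟩ := isConj_iff.1 e
  have h1 := rce_conj (s := c) hg
  rw [← map_inv, ← map_mul, ← map_mul] at h1
  exact h1

theorem Ok.inv {g : Spor.Co2} (hg : Ok g) : Ok g⁻¹ := by
  have h1 := rce_inv hg
  rw [← map_inv] at h1
  exact h1

theorem ok_pp {g : Spor.Co2} {r k : ℕ} (hr : r.Prime) (h : g ^ r ^ k = 1) : Ok g := by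
  obtain ⟨j, -, hj⟩ := (Nat.dvd_prime_pow hr).1 (orderOf_dvd_of_pow_eq_one h)
  refine rce_of_prime_pow simple_co2 _ hr (k := j) ?_
  rw [orderOf_injective _ (conj_injective simple_co2 ncomm_co2), hj]

/-- the power of a word is one -/
noncomputable def ppF (w : List ℕ) (n : ℕ) : Bool :=
  wmF w ID22 fun W => powF W n ID22 fun Z => eqL Z ID22

theorem ok_word {w : List ℕ} (n : ℕ) {r k : ℕ} (hr : r.Prime) (hn : n = r ^ k) (h : ppF w n = true) : Ok (wd w) := by
  refine ok_pp hr (k := k) ?_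
  obtain ⟨W, hW, h1⟩ := wm_spec rp_one' h
  rw [mul_one] at hW
  obtain ⟨Z, hZ, h2⟩ := pow_spec hW rp_one' h1
  rw [mul_one] at hZ
  rw [← hn]
  refine eq_of_rp hZ ?_
  rw [eqL_eq h2]
  exact rp_one'

/-- the powers of a word -/
noncomputable def pwsF (w : List ℕ) (m p q : ℕ) (kk : List ℕ → List ℕ → Bool) : Bool :=
  wmF w ID22 fun W => powF W (Nat.div m p) ID22 fun X => powF W (Nat.div m q) ID22 fun Y =>
    cond (mvF X) (cond (mvF Y) (cond (powF X p ID22 fun Z => eqL Z ID22) (kk X Y) false) false) false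

theorem pws_spec {w : List ℕ} {m p q : ℕ} {kk : List ℕ → List ℕ → Bool} (hpm : p ∣ m)
    (h : pwsF w m p q kk = true) : ∃ X Y, M.Rp X (wd w ^ (m / p)) ∧ M.Rp Y (wd w ^ (m / q)) ∧
      wd w ^ (m / p) ≠ 1 ∧ wd w ^ (m / q) ≠ 1 ∧ wd w ^ m = 1 ∧ kk X Y = true := by
  obtain ⟨W, hW, h1⟩ := wm_spec rp_one' h
  rw [mul_one] at hW
  obtain ⟨X, hX, h2⟩ := pow_spec hW rp_one' h1
  obtain ⟨Y, hY, h3⟩ := pow_spec hW rp_one' h2
  rw [mul_one] at hX hY
  cases b1 : mvF X with
  | false => rw [b1] at h3; exact absurd h3 (by simp)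
  | true =>
    cases b2 : mvF Y with
    | false => rw [b1, b2] at h3; exact absurd h3 (by simp)
    | true =>
      cases b3 : powF X p ID22 (fun Z => eqL Z ID22) with
      | false => rw [b1, b2, b3] at h3; exact absurd h3 (by simp)
      | true =>
        rw [b1, b2, b3] at h3
        obtain ⟨Z, hZ, h4⟩ := pow_spec hX rp_one' b3
        refine ⟨X, Y, hX, hY, mv_spec hX b1, mv_spec hY b2, ?_, h3⟩
        have h5 : (wd w ^ (m / p)) ^ p * 1 = 1 := by
          refine eq_of_rp hZ ?_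
          rw [eqL_eq h4]
          exact rp_one'
        rw [mul_one, ← pow_mul] at h5
        have e : m / p * p = m := Nat.div_mul_cancel hpm
        rwa [e] at h5

theorem ok_dead {w : List ℕ} {m p q : ℕ} (hpm : p ∣ m) (hqm : q ∣ m) (hm0 : 0 < m)
    (hpr : ∀ r : ℕ, r.Prime → r ∣ m → r = p ∨ r = q) (h1 : wd w ^ m = 1)
    (hX : wd w ^ (m / p) ≠ 1) (hY : wd w ^ (m / q) ≠ 1)
    (hD : Dead (⊤ : Subgroup Spor.Co2) (wd w ^ (m / p)) (wd w ^ (m / q))) : Ok (wd w) := by
  have ho : orderOf (wd w) = m := by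
    refine orderOf_eq_of_pow_and_pow_div_prime hm0 h1 fun r hr hrm => ?_
    rcases hpr r hr hrm with rfl | rfl
    · exact hX
    · exact hY
  exact rce_of_inner simple_co2 ncomm_co2 ho hm0.ne' hpm hqm hpr hD

/-- type A -/
noncomputable def kA (l : List (List ℕ)) (k : ℕ) (X Y : List ℕ) : Bool := stF X Y l k fun U => eqL U X

theorem kA_spec {X Y : List ℕ} {x y : Spor.Co2} (hX : M.Rp X x) (hY : M.Rp Y y) (hx : x ≠ 1) {l : List (List ℕ)}
    {k : ℕ} (h : kA l k X Y = true) : Dead (⊤ : Subgroup Spor.Co2) x y := by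
  obtain ⟨h1, U, hU, h2⟩ := st_spec hX hY h
  refine dead_prod nice_co2 hx _ h1 k (eq_of_rp hU ?_)
  rw [eqL_eq h2]
  exact hX

/-- type B -/
noncomputable def kB (l : List (List ℕ)) (k : ℕ) (l' : List (List ℕ)) (j : ℕ) (X Y : List ℕ) : Bool :=
  stF X Y l k fun U => cond (mvF U) (stF U X l' j fun V => eqL V U) false

theorem kB_spec {X Y : List ℕ} {x y : Spor.Co2} (hX : M.Rp X x) (hY : M.Rp Y y) {l l' : List (List ℕ)}
    {k j : ℕ} (h : kB l k l' j X Y = true) : Dead (⊤ : Subgroup Spor.Co2) x y := by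
  obtain ⟨h1, U, hU, h2⟩ := st_spec hX hY h
  cases hb : mvF U with
  | false => rw [hb] at h2; exact absurd h2 (by simp)
  | true =>
    rw [hb] at h2
    obtain ⟨h3, V, hV, h4⟩ := st_spec hU hX h2
    refine dead_step _ h1 k rfl (dead_prod nice_co2 (mv_spec hU hb) _ h3 j (eq_of_rp hV ?_)).symm
    rw [eqL_eq h4]
    exact hU

theorem ok_A {w : List ℕ} {m p q k : ℕ} {l : List (List ℕ)} (hpm : p ∣ m) (hqm : q ∣ m) (hm0 : 0 < m)
    (hpr : ∀ r : ℕ, r.Prime → r ∣ m → r = p ∨ r = q) (h : pwsF w m p q (kA l k) = true) : Ok (wd w) := by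
  obtain ⟨X, Y, hX, hY, hx, hy, h1, h2⟩ := pws_spec hpm h
  exact ok_dead hpm hqm hm0 hpr h1 hx hy (kA_spec hX hY hx h2)

theorem ok_B {w : List ℕ} {m p q k j : ℕ} {l l' : List (List ℕ)} (hpm : p ∣ m) (hqm : q ∣ m) (hm0 : 0 < m)
    (hpr : ∀ r : ℕ, r.Prime → r ∣ m → r = p ∨ r = q) (h : pwsF w m p q (kB l k l' j) = true) : Ok (wd w) := by
  obtain ⟨X, Y, hX, hY, hx, hy, h1, h2⟩ := pws_spec hpm h
  exact ok_dead hpm hqm hm0 hpr h1 hx hy (kB_spec hX hY h2)

theorem pr_of {m p q : ℕ} (a b : ℕ) (hp : p.Prime) (hq : q.Prime) (hm : m = p ^ a * q ^ b) :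
    ∀ r : ℕ, r.Prime → r ∣ m → r = p ∨ r = q := by
  intro r hr hrm
  rw [hm] at hrm
  rcases (Nat.Prime.dvd_mul hr).1 hrm with h | h
  · exact Or.inl ((Nat.prime_dvd_prime_iff_eq hr hp).1 (hr.dvd_of_dvd_pow h))
  · exact Or.inr ((Nat.prime_dvd_prime_iff_eq hr hq).1 (hr.dvd_of_dvd_pow h))

end Cfsg.Agent.H147.RG.CoTwo
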