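import Cfsg.Agent.H916.RG.Pair
import Cfsg.Agent.H305.SepJ1
import Cfsg.Agent.H413.JOneSpec
import Cfsg.Agent.H147.Gen.Eng
import Cfsg.Agent.S2065

/-!
# S3509, row `J1` (helper147)

The pairs of commuting elements of orders (2, 3), (2, 5) are reduced to (3, 5); there the two classes are too small:
`|C(a)| + |C(b)| = 60`, and proper subgroups have index at least 61 (order engine).
-/

set_option autoImplicit false

namespace Cfsg.Agent.H147.RG

open Subgroup Cfsg.Agent.H106.RC Cfsg.Agent.H916.RG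

section Count

variable {A : Type*} [Group A]

theorem card_conj_le [Finite A] (H : Subgroup A) (a : A) :
    Nat.card {s : A // s * a * s⁻¹ ∈ H} ≤ Nat.card H * Nat.card (centralizer ({a} : Set A)) := by
  classical
  rw [← Nat.card_prod]
  let f : {s : A // s * a * s⁻¹ ∈ H} → H := fun s => ⟨s.1 * a * s.1⁻¹, s.2⟩
  let r : H → A := fun h => if hh : ∃ s, f s = h then (hh.choose : {s : A // s * a * s⁻¹ ∈ H}).1 else 1
  have hr : ∀ s, r (f s) * a * (r (f s))⁻¹ = s.1 * a * s.1⁻¹ := by
    intro s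
    have hh : ∃ s', f s' = f s := ⟨s, rfl⟩
    have h1 := hh.choose_spec
    have h2 : r (f s) = hh.choose.1 := dif_pos hh
    rw [h2]
    exact congrArg Subtype.val h1
  have hc : ∀ s : {s : A // s * a * s⁻¹ ∈ H}, (r (f s))⁻¹ * s.1 ∈ centralizer ({a} : Set A) := by
    intro s
    rw [mem_centralizer_singleton_iff]
    have := hr s
    calc (r (f s))⁻¹ * s.1 * a = (r (f s))⁻¹ * (s.1 * a * s.1⁻¹) * s.1 := by group
      _ = (r (f s))⁻¹ * (r (f s) * a * (r (f s))⁻¹) * s.1 := by rw [this]
      _ = a * ((r (f s))⁻¹ * s.1) := by group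
  refine Nat.card_le_card_of_injective
    (fun s => ((f s, ⟨(r (f s))⁻¹ * s.1, hc s⟩) : H × centralizer ({a} : Set A))) ?_
  intro s t h
  have h1 : f s = f t := congrArg Prod.fst h
  have h2 : (r (f s))⁻¹ * s.1 = (r (f t))⁻¹ * t.1 := congrArg (fun p => (p.2 : A)) h
  rw [h1] at h2
  exact Subtype.ext (mul_left_cancel h2)

/-- **the counting certificate** -/
theorem dead_of_count [Finite A] {a b : A} {c : ℕ}
    (hc : Nat.card (centralizer ({a} : Set A)) + Nat.card (centralizer ({b} : Set A)) ≤ c)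
    (h : ∀ H : Subgroup A, H ≠ ⊤ → c * Nat.card H < Nat.card A) : Dead (⊤ : Subgroup A) a b := by
  classical
  intro H hH hP
  have hne : H ≠ ⊤ := fun h => hH (h ▸ le_rfl)
  have h1 := h H hne
  have h2 : Nat.card A ≤ Nat.card ({s : A // s * a * s⁻¹ ∈ H} ⊕ {s : A // s * b * s⁻¹ ∈ H}) := by
    refine Nat.card_le_card_of_injective (fun s : A => if hs : s * a * s⁻¹ ∈ H then Sum.inl ⟨s, hs⟩
      else Sum.inr ⟨s, (hP s (mem_top s)).resolve_left hs⟩) ?_
    intro s t hst
    dsimp only at hst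
    split_ifs at hst with h3 h4 h4
    · exact congrArg Subtype.val (Sum.inl.inj hst)
    · exact congrArg Subtype.val (Sum.inr.inj hst)
  rw [Nat.card_sum] at h2
  have h3 := card_conj_le H a
  have h4 := card_conj_le H b
  have h5 : Nat.card A ≤ c * Nat.card H := by
    calc Nat.card A ≤ Nat.card H * Nat.card (centralizer ({a} : Set A)) +
          Nat.card H * Nat.card (centralizer ({b} : Set A)) := by omega
      _ = (Nat.card (centralizer ({a} : Set A)) + Nat.card (centralizer ({b} : Set A))) * Nat.card H := by ring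
      _ ≤ c * Nat.card H := Nat.mul_le_mul_right _ hc
  omega

end Count

namespace JOne

open Cfsg.Agent.H940.Eng Cfsg.Agent.H940.Eng.D Cfsg.Agent.H305.SepJ1 Cfsg.Agent.H147.Gen

def os : List ℕ := [1, 2, 3, 4, 5, 6, 7, 8, 10, 11, 12, 14, 15, 19, 20, 21, 22, 24, 28, 30, 33, 35, 38, 40, 42, 44, 55, 56, 57,
    60, 66, 70, 76, 77, 84, 88, 95, 105, 110, 114, 120, 132, 133, 140, 152, 154, 165, 168, 190, 209, 210, 220,
    228, 231, 264, 266, 280, 285, 308, 330, 380, 385, 399, 418, 420, 440, 456, 462, 532, 570, 616, 627, 660, 665,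
    760, 770, 798, 836, 840, 924, 1045, 1064, 1140, 1155, 1254, 1320, 1330, 1463, 1540, 1596, 1672, 1848, 1995,
    2090, 2280, 2310, 2508, 2660]

theorem chk : chkO l_j1 n_j1 1 l_j1 os [] 60 loc o_j1 = true := by decide +kernel

theorem os_lt : ∀ d ∈ os, 60 * d < 175560 := by decide +kernel

theorem count (B : Base) {H : Subgroup G} (hH : H ≠ ⊤) : 60 * Nat.card H < Nat.card G := by
  have h1 := ordersD (ctx B) l_j1 os 60 chk H (one_dvd _) hH
  rw [card]
  exact os_lt _ h1

theorem nc : ¬ IsMulCommutative G := fun h => na fun a b => h.is_comm.comm a b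

theorem nice : Nice (⊤ : Subgroup G) := nice_top simple nc

/-- a commuting pair of orders 3, 5 -/
theorem dead35 (B : Base) {a b : G} (ha : orderOf a = 3) (hb : orderOf b = 5) : Dead (⊤ : Subgroup G) a b := by
  have := fin
  refine dead_of_count (c := 60) ?_ fun H hH => count B hH
  rw [local'.cent3 a ha, local'.cent5 b hb]

theorem dead53 (B : Base) {a b : G} (ha : orderOf a = 5) (hb : orderOf b = 3) : Dead (⊤ : Subgroup G) a b := by
  have := fin
  refine dead_of_count (c := 60) ?_ fun H hH => count B hH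
  rw [local'.cent5 a ha, local'.cent3 b hb]

/-- `a` of order `p`, `w` of order `q`, `b` commute with `a`, `|C(a)| = 2 p q`, `b` and `w` do not commute -/
theorem comm_order {p q : ℕ} (hp : p.Prime) (hq : q.Prime) (hpq : p ≠ q) {a w b : G} (ha : orderOf a = p)
    (hw : orderOf w = q) (hC : Nat.card (centralizer ({a} : Set G)) = 2 * (p * q)) (haw : w * a = a * w)
    (hab : b * a = a * b) (hbw : b * w ≠ w * b) : orderOf (b⁻¹ * (w * b * w⁻¹)) = q := by
  have := fin
  have hwC : w ∈ centralizer ({a} : Set G) := mem_centralizer_singleton_iff.2 haw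
  have hbC : b ∈ centralizer ({a} : Set G) := mem_centralizer_singleton_iff.2 hab
  have haC : a ∈ centralizer ({a} : Set G) := mem_centralizer_singleton_iff.2 rfl
  set X : Subgroup (centralizer ({a} : Set G)) := (centralizer ({w} : Set G)).subgroupOf _ with hX
  have hp1 : p ∣ Nat.card X := by
    have h1 : (⟨a, haC⟩ : centralizer ({a} : Set G)) ∈ X := mem_subgroupOf.2 (mem_centralizer_singleton_iff.2 haw.symm)
    have h2 := orderOf_dvd_natCard (⟨_, h1⟩ : X)
    rwa [Subgroup.orderOf_mk, Subgroup.orderOf_mk, ha] at h2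
  have hq1 : q ∣ Nat.card X := by
    have h1 : (⟨w, hwC⟩ : centralizer ({a} : Set G)) ∈ X := mem_subgroupOf.2 (mem_centralizer_singleton_iff.2 rfl)
    have h2 := orderOf_dvd_natCard (⟨_, h1⟩ : X)
    rwa [Subgroup.orderOf_mk, Subgroup.orderOf_mk, hw] at h2
  have hpq1 : p * q ∣ Nat.card X := Nat.Coprime.mul_dvd_of_dvd_of_dvd ((Nat.coprime_primes hp hq).2 hpq) hp1 hq1
  have hidx : X.index ∣ 2 := by
    have h1 := X.card_mul_index
    rw [hC] at h1
    obtain ⟨k, hk⟩ := hpq1
    rw [hk] at h1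
    have h2 : k * X.index = 2 := by
      have h3 : 0 < p * q := Nat.mul_pos hp.pos hq.pos
      apply Nat.eq_of_mul_eq_mul_left h3
      rw [← mul_assoc, h1, mul_comm]
    exact ⟨k, by rw [← h2, mul_comm]⟩
  have hn : X.Normal := by
    rcases (Nat.dvd_prime Nat.prime_two).1 hidx with h | h
    · rw [Subgroup.index_eq_one.1 h]
      infer_instance
    · exact Subgroup.normal_of_index_eq_two h
  have h1 : b⁻¹ * w * b * w = w * (b⁻¹ * w * b) := by
    have h2 := hn.conj_mem ⟨w, hwC⟩ (mem_subgroupOf.2 (mem_centralizer_singleton_iff.2 rfl)) (⟨b, hbC⟩)⁻¹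
    have h3 := mem_centralizer_singleton_iff.1 (mem_subgroupOf.1 h2)
    simpa using h3
  have hy : b⁻¹ * (w * b * w⁻¹) = (b⁻¹ * w * b) * w⁻¹ := by group
  have : Fact q.Prime := ⟨hq⟩
  apply orderOf_eq_prime
  · rw [hy]
    have hcm : Commute (b⁻¹ * w * b) w := h1
    rw [hcm.inv_right.mul_pow]
    have h4 : (b⁻¹ * w * b) ^ q = 1 := by
      have h5 : b⁻¹ * w * b = b⁻¹ * w * (b⁻¹)⁻¹ := by group
      rw [h5, conj_pow, ← hw, pow_orderOf_eq_one]
      group
    rw [h4, one_mul, inv_pow, ← hw, pow_orderOf_eq_one, inv_one]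
  · intro h
    apply hbw
    rw [inv_mul_eq_one] at h
    calc b * w = w * b * w⁻¹ * w := by rw [← h]
      _ = w * b := by group

theorem not_three {a w b : G} {p q : ℕ} (hp : p.Prime) (hq : q.Prime) (hpq : p * q = 15) (ha : orderOf a = p)
    (hw : orderOf w = q) (hb : orderOf b = 2) (haw : w * a = a * w) (hab : b * a = a * b) : b * w ≠ w * b := by
  intro hbw
  have hcop : Nat.Coprime p q := by
    rcases Nat.coprime_or_dvd_of_prime hp q with h | h
    · exact h
    · exfalso
      have h1 : p = q := (Nat.prime_dvd_prime_iff_eq hp hq).1 h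
      subst h1
      have : p ≤ 3 := by nlinarith
      interval_cases p <;> omega
  have h1 : orderOf (a * w) = 15 := by
    have hc : Commute a w := haw.symm
    rw [hc.orderOf_mul_eq_mul_orderOf_of_coprime (by rw [ha, hw]; exact hcop), ha, hw, hpq]
  have h2 : orderOf (a * w * b) = 30 := by
    have hc : Commute (a * w) b := (Commute.mul_left (show Commute a b from hab.symm) (show Commute w b from hbw.symm))
    rw [hc.orderOf_mul_eq_mul_orderOf_of_coprime (by rw [h1, hb]; decide), h1, hb]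
  have h3 := Cfsg.Agent.H413.JOneSpec.orderOf_mem_J1 (a * w * b)
  rw [h2] at h3
  exact absurd h3 (by decide)

/-- `a` of order 3 or 5 and a commuting involution -/
theorem dead_two (B : Base) {a b : G} {p q : ℕ} (h : (p = 3 ∧ q = 5) ∨ (p = 5 ∧ q = 3)) (ha : orderOf a = p)
    (hb : orderOf b = 2) (hab : b * a = a * b) : Dead (⊤ : Subgroup G) a b := by
  have := fin
  have hp : p.Prime := by rcases h with ⟨rfl, _⟩ | ⟨rfl, _⟩ <;> norm_num
  have hq : q.Prime := by rcases h with ⟨_, rfl⟩ | ⟨_, rfl⟩ <;> norm_num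
  have hpq : p * q = 15 := by rcases h with ⟨rfl, rfl⟩ | ⟨rfl, rfl⟩ <;> norm_num
  have hne : p ≠ q := by rcases h with ⟨rfl, rfl⟩ | ⟨rfl, rfl⟩ <;> norm_num
  have hC : Nat.card (centralizer ({a} : Set G)) = 2 * (p * q) := by
    rw [hpq]
    rcases h with ⟨rfl, _⟩ | ⟨rfl, _⟩
    · exact local'.cent3 a ha
    · exact local'.cent5 a ha
  have : Fact q.Prime := ⟨hq⟩
  obtain ⟨w, hw⟩ := exists_prime_orderOf_dvd_card' (G := centralizer ({a} : Set G)) q
    (by rw [hC]; exact ⟨2 * p, by ring⟩)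
  have hw1 : orderOf (w : G) = q := by rw [Subgroup.orderOf_coe, hw]
  have haw : (w : G) * a = a * w := mem_centralizer_singleton_iff.1 w.2
  have hbw := not_three hp hq hpq ha hw1 hb haw hab
  have hy := comm_order hp hq hne ha hw1 hC haw hab hbw
  refine Dead.step (n := (w : G)) (mem_top _) haw 1 (pow_one _) ?_
  rcases h with ⟨rfl, rfl⟩ | ⟨rfl, rfl⟩
  · exact dead35 B ha hy
  · exact dead53 B ha hy

theorem prime_of (x : G) : (∃ p k : ℕ, p.Prime ∧ orderOf x = p ^ k) ∨ orderOf x = 6 ∨ orderOf x = 10 ∨ orderOf x = 15 := by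
  have h := Cfsg.Agent.H413.JOneSpec.orderOf_mem_J1 x
  simp only [Finset.mem_insert, Finset.mem_singleton] at h
  rcases h with h | h | h | h | h | h | h | h | h | h
  · exact Or.inl ⟨2, 0, by norm_num, by rw [h]; norm_num⟩
  · exact Or.inl ⟨2, 1, by norm_num, by rw [h]; norm_num⟩
  · exact Or.inl ⟨3, 1, by norm_num, by rw [h]; norm_num⟩
  · exact Or.inl ⟨5, 1, by norm_num, by rw [h]; norm_num⟩
  · exact Or.inr (Or.inl h)
  · exact Or.inl ⟨7, 1, by norm_num, by rw [h]; norm_num⟩
  · exact Or.inr (Or.inr (Or.inl h))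
  · exact Or.inl ⟨11, 1, by norm_num, by rw [h]; norm_num⟩
  · exact Or.inr (Or.inr (Or.inr h))
  · exact Or.inl ⟨19, 1, by norm_num, by rw [h]; norm_num⟩

theorem pr6 (r : ℕ) (hr : r.Prime) (h : r ∣ 6) : r = 3 ∨ r = 2 := by
  have := Nat.le_of_dvd (by norm_num) h
  interval_cases r <;> first | omega | (exfalso; revert hr; norm_num) | tauto
theorem pr10 (r : ℕ) (hr : r.Prime) (h : r ∣ 10) : r = 5 ∨ r = 2 := by
  have := Nat.le_of_dvd (by norm_num) h
  interval_cases r <;> first | omega | (exfalso; revert hr; norm_num) | tauto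
theorem pr15 (r : ℕ) (hr : r.Prime) (h : r ∣ 15) : r = 3 ∨ r = 5 := by
  have := Nat.le_of_dvd (by norm_num) h
  interval_cases r <;> first | omega | (exfalso; revert hr; norm_num) | tauto

theorem ord_pow {x : G} {m p d : ℕ} (hx : orderOf x = m) (hm : m = p * d) (hp : 0 < p) (hd : 0 < d) : orderOf (x ^ d) = p := by
  rw [orderOf_pow_of_dvd hd.ne' ⟨p, by rw [hx, hm, mul_comm]⟩, hx, hm, Nat.mul_div_cancel _ hd]

theorem rce (B : Base) (x : G) : RCe G (MulAut.conj x) := by
  have hcm : ∀ i j : ℕ, x ^ i * x ^ j = x ^ j * x ^ i := fun i j => by rw [← pow_add, ← pow_add, add_comm]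
  rcases prime_of x with ⟨p, k, hp, hx⟩ | hx | hx | hx
  · refine rce_of_prime_pow simple _ hp (k := k) ?_
    rw [orderOf_injective _ (conj_injective simple nc), hx]
  · exact rce_of_inner simple nc (m := 6) (p := 3) (q := 2) hx (by norm_num) (by norm_num) (by norm_num) pr6
      (dead_two B (p := 3) (q := 5) (Or.inl ⟨rfl, rfl⟩) (ord_pow hx (by norm_num) (by norm_num) (by norm_num))
        (ord_pow hx (by norm_num) (by norm_num) (by norm_num)) (hcm _ _))
  · exact rce_of_inner simple nc (m := 10) (p := 5) (q := 2) hx (by norm_num) (by norm_num) (by norm_num) pr10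
      (dead_two B (p := 5) (q := 3) (Or.inr ⟨rfl, rfl⟩) (ord_pow hx (by norm_num) (by norm_num) (by norm_num))
        (ord_pow hx (by norm_num) (by norm_num) (by norm_num)) (hcm _ _))
  · exact rce_of_inner simple nc (m := 15) (p := 3) (q := 5) hx (by norm_num) (by norm_num) (by norm_num) pr15
      (dead35 B (ord_pow hx (by norm_num) (by norm_num) (by norm_num))
        (ord_pow hx (by norm_num) (by norm_num) (by norm_num)))

theorem rc (B : Base) : RC G := by
  intro g
  have h1 : (MulAut.conj : G →* MulAut G).range = ⊤ := Subgroup.index_eq_one.1 Cfsg.Agent.S2065.result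
  obtain ⟨x, rfl⟩ : g ∈ (MulAut.conj : G →* MulAut G).range := by rw [h1]; trivial
  exact rce B x

/-- **the row `J1` of S3509** -/
theorem rc_j1 (B : Base) {T : Type} [Group T] [Finite T] (h : Cfsg.Spor.IsoJ1 T) : RC T := by
  obtain ⟨e⟩ := h
  exact (rc B).congr e.symm

end JOne

end Cfsg.Agent.H147.RG
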